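import Groth.Agent.LocImmLib.Basic

/-!
# Affine neighbourhoods with affine localizing preimage
-/

set_option autoImplicit false
set_option linter.style.haveILetI false
universe u

open CategoryTheory AlgebraicGeometry Topology TopologicalSpace

namespace Groth.Agent.LocImmLib

/-- a localizing ring map stays localizing after inverting an element -/
theorem isLocHom_away {A A' B B' : Type u} [CommRing A] [CommRing A'] [CommRing B] [CommRing B'] [Algebra A A']
    [Algebra B B'] (φ : A →+* B) (hφ : LocImm.IsLocHom φ) (t : A) [IsLocalization.Away t A']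
    [IsLocalization.Away (φ t) B'] (ψ : A' →+* B')
    (hψ : ∀ a, ψ (algebraMap A A' a) = algebraMap B B' (φ a)) : LocImm.IsLocHom ψ := by
  letI := φ.toAlgebra
  obtain ⟨S, hS⟩ := hφ
  have ht : IsUnit (ψ (algebraMap A A' t)) := hψ t ▸ IsLocalization.Away.algebraMap_isUnit (φ t)
  have hs : ∀ s : S, IsUnit (ψ (algebraMap A A' s)) := fun s =>
    hψ s ▸ (IsLocalization.map_units (M := S) B s).map (algebraMap B B')
  letI := ψ.toAlgebra
  refine ⟨(IsUnit.submonoid B').comap ψ.toMonoidHom, { map_units := fun y => y.2, surj := fun b' => ?_, exists_of_eq := fun {x y} hxy => ?_ }⟩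
  · obtain ⟨⟨b, ⟨_, n, rfl⟩⟩, hb⟩ := IsLocalization.surj (Submonoid.powers (φ t)) b'
    obtain ⟨⟨a, s⟩, hab⟩ := IsLocalization.surj S b
    refine ⟨⟨algebraMap A A' a, algebraMap A A' (t ^ n * s), ?_⟩, ?_⟩
    · show IsUnit (ψ _)
      rw [map_mul, map_mul, map_pow, map_pow]
      exact (ht.pow n).mul (hs s)
    · show b' * ψ (algebraMap A A' (t ^ n * s)) = ψ (algebraMap A A' a)
      rw [hψ, hψ, map_mul, map_pow, map_mul, ← mul_assoc, show algebraMap B B' (φ t ^ n) = algebraMap B B' _ from rfl,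
        hb, ← map_mul]
      exact congrArg _ hab
  · obtain ⟨⟨a, ⟨_, n, rfl⟩⟩, ha⟩ := IsLocalization.surj (Submonoid.powers t) (x - y)
    have h0 : algebraMap B B' (φ a) = 0 := by
      rw [← hψ, ← ha, map_mul, map_sub, show ψ x = ψ y from hxy, sub_self, zero_mul]
    obtain ⟨⟨_, k, rfl⟩, hk⟩ := (IsLocalization.map_eq_zero_iff (Submonoid.powers (φ t)) B' _).1 h0
    have h1 : algebraMap A B (t ^ k * a) = 0 := by
      show φ (t ^ k * a) = 0
      rw [map_mul, map_pow]; exact hk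
    obtain ⟨s, hs'⟩ := (IsLocalization.map_eq_zero_iff S B _).1 h1
    refine ⟨⟨algebraMap A A' (s * t ^ k * t ^ n), ?_⟩, ?_⟩
    · show IsUnit (ψ _)
      rw [map_mul, map_mul, map_mul, map_mul, map_pow, map_pow, map_pow, map_pow]
      exact ((hs s).mul (ht.pow k)).mul (ht.pow n)
    · show algebraMap A A' ((s : A) * t ^ k * t ^ n) * x = algebraMap A A' ((s : A) * t ^ k * t ^ n) * y
      rw [← sub_eq_zero, ← mul_sub, map_mul, mul_assoc, mul_comm (algebraMap A A' (t ^ n)), ha, ← map_mul,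
        mul_assoc, hs', map_zero]

variable {X Y : Scheme.{u}} {f : X ⟶ Y}

theorem exists_affine_preimage [IsNoetherian X] (hf : LocImm.IsLocImmersion f) (x : X) :
    ∃ D : Y.Opens, f x ∈ D ∧ IsAffineOpen D ∧ IsAffineOpen (f ⁻¹ᵁ D) ∧ LocImm.IsLocHom (f.app D).hom := by
  obtain ⟨U, V, hx, e, hloc⟩ := hf.1 x
  obtain ⟨O, hO, hOV⟩ := (isEmbedding hf).isInducing.isOpen_iff.1 V.1.2
  have hxO : f x ∈ (⟨O, hO⟩ : Y.Opens) := hOV.ge hx
  obtain ⟨t, htO, hxt⟩ := U.2.exists_basicOpen_le (V := ⟨O, hO⟩) ⟨f x, hxO⟩ (e hx)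
  have hW : f ⁻¹ᵁ Y.basicOpen t = X.basicOpen (f.appLE U.1 V.1 e t) := by
    rw [Scheme.preimage_basicOpen, Scheme.Hom.appLE, CommRingCat.comp_apply, Scheme.basicOpen_res]
    refine (inf_eq_right.2 ?_).symm
    rw [← Scheme.preimage_basicOpen]
    exact fun z hz => hOV.le (htO hz)
  haveI := U.2.isLocalization_basicOpen t
  haveI := V.2.isLocalization_basicOpen (f.appLE U.1 V.1 e t)
  have key : ∀ (W : X.Opens) (h : W = X.basicOpen (f.appLE U.1 V.1 e t)) (e' : W ≤ f ⁻¹ᵁ Y.basicOpen t),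
      LocImm.IsLocHom (f.appLE (Y.basicOpen t) W e').hom := by
    rintro W rfl e'
    exact isLocHom_away (f.appLE U.1 V.1 e).hom hloc t _ fun a => by
      simp only [RingHom.algebraMap_toAlgebra, ← CommRingCat.comp_apply, Scheme.Hom.map_appLE, Scheme.Hom.appLE_map]
  refine ⟨_, hxt, U.2.basicOpen t, hW ▸ V.2.basicOpen _, ?_⟩
  rw [Scheme.Hom.app_eq_appLE]
  exact key _ hW le_rfl

end Groth.Agent.LocImmLib
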