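import Groth.Prelude.Def_W4c5cptfessfintypeLocImm
import Groth.Agent.ConstrSets.Basic
import Mathlib

/-!
# Localizing immersions of Noetherian schemes
-/

set_option autoImplicit false
set_option linter.style.haveILetI false
universe u

open CategoryTheory AlgebraicGeometry Topology TopologicalSpace

namespace Groth.Agent.LocImmLib

variable {X Y : Scheme.{u}} {f : X ⟶ Y}

/-- on a chart a localizing morphism is a flat preimmersion -/
theorem exists_chart (hf : LocImm.IsLocalizing f) (x : X) :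
    ∃ (W : Scheme.{u}) (j : W ⟶ X) (p : W), IsOpenImmersion j ∧ j p = x ∧
      IsPreimmersion (j ≫ f) ∧ Flat (j ≫ f) := by
  obtain ⟨U, V, hx, e, hloc⟩ := hf x
  let φ := f.appLE U.1 V.1 e
  obtain ⟨p, hp⟩ : x ∈ Set.range V.2.fromSpec := by rw [V.2.range_fromSpec]; exact hx
  letI := φ.hom.toAlgebra
  obtain ⟨S, hS⟩ := hloc
  have h1 : Spec.map φ ≫ U.2.fromSpec = V.2.fromSpec ≫ f := U.2.SpecMap_appLE_fromSpec f V.2 e
  have h2 : IsPreimmersion (Spec.map φ) := IsPreimmersion.of_isLocalization (R := Γ(Y, U.1)) (S := Γ(X, V.1)) S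
  have h3 : Flat (Spec.map φ) := by
    refine (Flat.SpecMap_iff).2 ?_
    exact RingHom.flat_algebraMap_iff.2 (IsLocalization.flat Γ(X, V.1) S)
  haveI := U.2.isOpenImmersion_fromSpec
  refine ⟨_, V.2.fromSpec, p, V.2.isOpenImmersion_fromSpec, hp, ?_, ?_⟩
  · rw [← h1]; exact inferInstance
  · rw [← h1]; exact inferInstance

theorem generalizingMap (hf : LocImm.IsLocalizing f) : GeneralizingMap f := by
  intro x y hy
  obtain ⟨W, j, p, hj, rfl, hpre, hfl⟩ := exists_chart hf x
  obtain ⟨q, hq, hqy⟩ := Flat.generalizingMap (j ≫ f) hy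
  exact ⟨j q, hq.map j.continuous, hqy⟩

theorem isIso_stalkMap (hf : LocImm.IsLocalizing f) (x : X) : IsIso (f.stalkMap x) := by
  obtain ⟨W, j, p, hj, rfl, hpre, hfl⟩ := exists_chart hf x
  have h1 : Function.Bijective ((j ≫ f).stalkMap p) := by
    refine ⟨?_, (j ≫ f).stalkMap_surjective p⟩
    have hflat : ((j ≫ f).stalkMap p).hom.Flat := Flat.stalkMap (j ≫ f) p
    letI := ((j ≫ f).stalkMap p).hom.toAlgebra
    haveI : Module.Flat (Y.presheaf.stalk ((j ≫ f) p)) (W.presheaf.stalk p) := hflat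
    haveI : IsLocalHom (algebraMap (Y.presheaf.stalk ((j ≫ f) p)) (W.presheaf.stalk p)) :=
      inferInstanceAs (IsLocalHom ((j ≫ f).stalkMap p).hom)
    haveI := Module.FaithfullyFlat.of_flat_of_isLocalHom
      (A := Y.presheaf.stalk ((j ≫ f) p)) (B := W.presheaf.stalk p)
    exact FaithfulSMul.algebraMap_injective _ _
  have h2 : IsIso ((j ≫ f).stalkMap p) := (ConcreteCategory.isIso_iff_bijective _).2 h1
  rw [Scheme.Hom.stalkMap_comp] at h2
  haveI := h2
  haveI : IsOpenImmersion j := hj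
  exact @IsIso.of_isIso_comp_right _ _ _ _ _ (f.stalkMap (j p)) (j.stalkMap p) inferInstance h2

theorem specializes_of_map (hf : LocImm.IsLocImmersion f) {x x' : X} (h : f x ⤳ f x') : x ⤳ x' := by
  obtain ⟨x'', hx'', he⟩ := generalizingMap hf.1 h
  exact hf.2 he ▸ hx''

theorem isEmbedding [IsNoetherian X] (hf : LocImm.IsLocImmersion f) : IsEmbedding f := by
  refine ⟨⟨le_antisymm f.continuous.le_induced fun U hU => ?_⟩, hf.2⟩
  refine isOpen_induced_iff.2 ⟨(closure (f '' Uᶜ))ᶜ, isClosed_closure.isOpen_compl, ?_⟩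
  ext x
  simp only [Set.preimage_compl, Set.mem_compl_iff, Set.mem_preimage]
  refine ⟨fun h => by_contra fun hx => h (subset_closure ⟨x, hx, rfl⟩), fun hx h => ?_⟩
  obtain ⟨S, hSf, hSc, hSi, hSU⟩ :=
    TopologicalSpace.NoetherianSpace.exists_finite_set_isClosed_irreducible (s := Uᶜ) hU.isClosed_compl
  rw [hSU, Set.image_sUnion, Set.Finite.closure_sUnion (hSf.image _)] at h
  obtain ⟨_, ⟨Z, hZ, rfl⟩, hxZ⟩ : ∃ t ∈ (fun Z => f '' Z) '' S, f x ∈ closure t := by
    simpa using h
  have hξ := (hSi Z hZ).isGenericPoint_genericPoint (hSc Z hZ)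
  let ξ := (hSi Z hZ).genericPoint
  have h1 : f '' Z ⊆ closure {f ξ} := fun z ⟨a, ha, hz⟩ =>
    hz ▸ ((hξ.specializes ha).map f.continuous).mem_closure
  have h2 : f ξ ⤳ f x := specializes_iff_mem_closure.2 (closure_minimal h1 isClosed_closure hxZ)
  have h3 : x ∈ Z := (specializes_of_map hf h2).mem_closed (hSc Z hZ) hξ.mem
  exact (hSU.ge ⟨Z, hZ, h3⟩) hx

theorem isPreimmersion [IsNoetherian X] (hf : LocImm.IsLocImmersion f) : IsPreimmersion f :=
  { stalkMap_surjective := fun x => by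
      haveI := isIso_stalkMap hf.1 x
      exact (ConcreteCategory.bijective_of_isIso (f.stalkMap x)).2
    isEmbedding := isEmbedding hf }

theorem isOpenImmersion_of_isConstructible [IsNoetherian X] [IsNoetherian Y] (hf : LocImm.IsLocImmersion f)
    (h : IsConstructible (Set.range f)) : IsOpenImmersion f := by
  haveI := isIso_stalkMap hf.1
  exact IsOpenImmersion.of_isIso_stalkMap f ⟨isEmbedding hf,
    ConstrSets.isOpen_of_stableUnderGeneralization h (generalizingMap hf.1).stableUnderGeneralization_range⟩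

end Groth.Agent.LocImmLib
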