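import Groth.Agent.LocImmLib.Affine

/-!
# Localizing immersions and schematically dominant morphisms
-/

set_option autoImplicit false
set_option linter.style.haveILetI false
universe u

open CategoryTheory AlgebraicGeometry Topology TopologicalSpace

namespace Groth.Agent.LocImmLib

/-- every element is a fraction with a denominator mapped to a unit -/
def Frac {A B : Type u} [CommRing A] [CommRing B] (φ : A →+* B) : Prop :=
  ∀ b : B, ∃ a a' : A, IsUnit (φ a') ∧ b * φ a' = φ a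

theorem Frac.of_isLocHom {A B : Type u} [CommRing A] [CommRing B] (φ : A →+* B) (h : LocImm.IsLocHom φ) :
    Frac φ := fun b => by
  letI := φ.toAlgebra
  obtain ⟨S, hS⟩ := h
  obtain ⟨⟨a, s⟩, h⟩ := IsLocalization.surj S b
  exact ⟨a, s, IsLocalization.map_units (M := S) B s, h⟩

theorem Frac.away {A B B' : Type u} [CommRing A] [CommRing B] [CommRing B'] [Algebra B B'] {φ : A →+* B}
    (hφ : Frac φ) (v : B) [IsLocalization.Away v B'] : Frac ((algebraMap B B').comp φ) := fun b' => by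
  obtain ⟨⟨w, ⟨_, n, rfl⟩⟩, hw⟩ := IsLocalization.surj (Submonoid.powers v) b'
  obtain ⟨c, s, hs, hv⟩ := hφ v
  obtain ⟨a, s', hs', hw'⟩ := hφ w
  let j := algebraMap B B'
  have hjv : IsUnit (j v) := IsLocalization.Away.algebraMap_isUnit v
  have hjc : j (φ c) = j v * j (φ s) := by rw [← map_mul, hv]
  refine ⟨a * s ^ n, c ^ n * s', ?_, ?_⟩
  · show IsUnit (j (φ (c ^ n * s')))
    rw [map_mul, map_mul, map_pow, map_pow, hjc]
    exact ((hjv.mul (hs.map j)).pow n).mul (hs'.map j)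
  · show b' * j (φ (c ^ n * s')) = j (φ (a * s ^ n))
    replace hw : b' * j (v ^ n) = j w := hw
    calc b' * j (φ (c ^ n * s')) = b' * j (v ^ n) * (j (φ s) ^ n * j (φ s')) := by
          simp only [map_mul, map_pow, hjc, mul_pow]; ring
      _ = j (φ (a * s ^ n)) := by
          rw [hw, map_mul φ, ← hw']
          simp only [map_mul, map_pow]; ring

variable {X Y : Scheme.{u}} {f : X ⟶ Y}

theorem frac_basicOpen {U : Y.Opens} {V : X.Opens} (hV : IsAffineOpen V) (e : V ≤ f ⁻¹ᵁ U)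
    (h : Frac (f.appLE U V e).hom) (v : Γ(X, V)) (e' : X.basicOpen v ≤ f ⁻¹ᵁ U) :
    Frac (f.appLE U (X.basicOpen v) e').hom := by
  haveI := hV.isLocalization_basicOpen v
  have := h.away (B' := Γ(X, X.basicOpen v)) v
  rwa [RingHom.algebraMap_toAlgebra, ← CommRingCat.hom_comp, Scheme.Hom.appLE_map] at this

theorem isLocImmersion_of_injective_app {Z : Scheme.{u}} [IsNoetherian X] (g : Y ⟶ Z)
    (hfg : LocImm.IsLocImmersion (f ≫ g)) (hd : ∀ U : Y.Opens, Function.Injective (f.app U).hom) :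
    LocImm.IsLocImmersion f := by
  have hemb : IsEmbedding f := IsEmbedding.of_comp f.continuous g.continuous (isEmbedding hfg)
  refine ⟨fun x => ?_, hemb.injective⟩
  obtain ⟨U, V, hx, e, hloc⟩ := hfg.1 x
  obtain ⟨_, ⟨P, hP, rfl⟩, hxP, hPU⟩ :=
    Y.isBasis_affineOpens.exists_subset_of_mem_open (show f x ∈ (g ⁻¹ᵁ U.1 : Y.Opens) from e hx) (g ⁻¹ᵁ U.1).2
  replace hPU : P ≤ g ⁻¹ᵁ U.1 := hPU
  obtain ⟨v, hvP, hxv⟩ := V.2.exists_basicOpen_le (V := f ⁻¹ᵁ P) ⟨x, hxP⟩ hx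
  let W := X.basicOpen v
  have hW : IsAffineOpen W := V.2.basicOpen v
  have eW : W ≤ (f ≫ g) ⁻¹ᵁ U.1 := (X.basicOpen_le v).trans e
  have hfr : Frac (f.appLE P W hvP).hom := fun b => by
    obtain ⟨a, a', ha', hb⟩ := frac_basicOpen (f := f ≫ g) V.2 e (.of_isLocHom _ hloc) v eW b
    have hh : ∀ c, f.appLE P W hvP (g.appLE U.1 P hPU c) = (f ≫ g).appLE U.1 W eW c := fun c => by
      rw [← CommRingCat.comp_apply, Scheme.Hom.appLE_comp_appLE]
    refine ⟨g.appLE U.1 P hPU a, g.appLE U.1 P hPU a', (hh a').symm ▸ ha', ?_⟩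
    exact (congrArg (b * ·) (hh a')).trans (hb.trans (hh a).symm)
  obtain ⟨O, hO, hOW⟩ := hemb.isInducing.isOpen_iff.1 W.2
  have hxO : f x ∈ (⟨O, hO⟩ : Y.Opens) := hOW.ge hxv
  obtain ⟨t, htO, hxt⟩ := hP.exists_basicOpen_le (V := ⟨O, hO⟩) ⟨f x, hxO⟩ hxP
  have hWt : f ⁻¹ᵁ Y.basicOpen t = X.basicOpen (f.appLE P W hvP t) := by
    rw [Scheme.preimage_basicOpen, Scheme.Hom.appLE, CommRingCat.comp_apply, Scheme.basicOpen_res]
    refine (inf_eq_right.2 ?_).symm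
    rw [← Scheme.preimage_basicOpen]
    exact fun z hz => hOW.le (htO hz)
  have key : ∀ (W₂ : X.Opens) (h : W₂ = X.basicOpen (f.appLE P W hvP t)) (e' : W₂ ≤ f ⁻¹ᵁ Y.basicOpen t),
      Frac (f.appLE (Y.basicOpen t) W₂ e').hom := by
    rintro W₂ rfl e' b
    have e2 : X.basicOpen (f.appLE P W hvP t) ≤ f ⁻¹ᵁ P :=
      e'.trans (f.preimage_mono (Y.basicOpen_le t))
    obtain ⟨a, a', ha', hb⟩ := frac_basicOpen hW hvP hfr (f.appLE P W hvP t) e2 b
    let r := Y.presheaf.map (homOfLE (Y.basicOpen_le t)).op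
    have hh : ∀ c, f.appLE (Y.basicOpen t) _ e' (r c) = f.appLE P _ e2 c := fun c => by
      rw [← CommRingCat.comp_apply, Scheme.Hom.map_appLE]
    exact ⟨r a, r a', (hh a').symm ▸ ha', (congrArg (b * ·) (hh a')).trans (hb.trans (hh a).symm)⟩
  refine ⟨⟨_, hP.basicOpen t⟩, ⟨f ⁻¹ᵁ Y.basicOpen t, hWt ▸ hW.basicOpen _⟩, hxt, le_rfl, ?_⟩
  have hψ := key _ hWt le_rfl
  rw [← Scheme.Hom.app_eq_appLE] at hψ ⊢
  let ψ := (f.app (Y.basicOpen t)).hom
  letI := ψ.toAlgebra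
  refine ⟨(IsUnit.submonoid _).comap ψ.toMonoidHom,
    { map_units := fun y => y.2, surj := fun b => ?_, exists_of_eq := fun {x y} h => ⟨1, ?_⟩ }⟩
  · obtain ⟨a, a', ha', hb⟩ := hψ b
    exact ⟨⟨a, a', ha'⟩, hb⟩
  · rw [hd _ h]

end Groth.Agent.LocImmLib
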