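import Groth.Agent.LocImmLib.Basic

/-!
# Separated localizing morphisms injective on maximal points
-/

set_option autoImplicit false
set_option linter.style.haveILetI false
universe u

open CategoryTheory CategoryTheory.Limits AlgebraicGeometry Topology TopologicalSpace

namespace Groth.Agent.LocImmLib

variable {X Y : Scheme.{u}} {f : X ⟶ Y}

theorem exists_section_stalk (hf : LocImm.IsLocalizing f) (x : X) (y : Y) (h : f x = y) :
    ∃ s : Spec (Y.presheaf.stalk y) ⟶ X, s ≫ f = Y.fromSpecStalk y ∧ s (IsLocalRing.closedPoint _) = x ∧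
      ∀ η, (∀ z, z ⤳ η → z = η) → ∀ z : X, z ⤳ s η → z = s η := by
  subst h
  haveI := isIso_stalkMap hf x
  let e := asIso (Spec.map (f.stalkMap x))
  refine ⟨e.inv ≫ X.fromSpecStalk x, ?_, ?_, fun η hη z hz => ?_⟩
  · rw [Category.assoc, ← Scheme.SpecMap_stalkMap_fromSpecStalk]
    exact e.inv_hom_id_assoc _
  · let c : (Spec (X.presheaf.stalk x) : Scheme.{u}) := IsLocalRing.closedPoint (X.presheaf.stalk x)
    let c' : (Spec (Y.presheaf.stalk (f x)) : Scheme.{u}) := IsLocalRing.closedPoint (Y.presheaf.stalk (f x))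
    have hmc : e.hom c = c' := IsLocalRing.comap_closedPoint (f.stalkMap x).hom
    show (e.inv ≫ X.fromSpecStalk x) c' = x
    rw [← hmc, ← Scheme.Hom.comp_apply, e.hom_inv_id_assoc]
    exact Scheme.fromSpecStalk_closedPoint
  · have hemb : IsEmbedding (e.inv ≫ X.fromSpecStalk x) := (e.inv ≫ X.fromSpecStalk x).isEmbedding
    have hzx : z ∈ Set.range (X.fromSpecStalk x) := by
      have hx : (e.inv ≫ X.fromSpecStalk x) η ∈ Set.range (X.fromSpecStalk x) :=
        ⟨e.inv η, (Scheme.Hom.comp_apply _ _ _).symm⟩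
      rw [Scheme.range_fromSpecStalk] at hx ⊢
      exact hz.trans hx
    obtain ⟨w, hw⟩ := hzx
    have hw' : (e.inv ≫ X.fromSpecStalk x) (e.hom w) = z := by
      rw [← Scheme.Hom.comp_apply, e.hom_inv_id_assoc]
      exact hw
    rw [← hw'] at hz ⊢
    exact congrArg _ (hη _ (hemb.isInducing.specializes_iff.1 hz))

theorem injective_of_isSeparated (hf : LocImm.IsLocalizing f) [IsSeparated f]
    (h : Set.InjOn (fun x => f x) {x : X | ∀ x' : X, x' ⤳ x → x' = x}) : Function.Injective f := by
  intro x x' hxx'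
  obtain ⟨s, hs, hsm, hsη⟩ := exists_section_stalk hf x (f x) rfl
  obtain ⟨s', hs', hsm', hsη'⟩ := exists_section_stalk hf x' (f x) hxx'.symm
  let l := pullback.lift s s' (hs.trans hs'.symm)
  let E := l ⁻¹' Set.range (pullback.diagonal f)
  have hE : IsClosed E := (pullback.diagonal f).isClosedEmbedding.isClosed_range.preimage l.continuous
  have hmax : ∀ η, (∀ z, z ⤳ η → z = η) → η ∈ E := fun η hη => by
    have hz : s η = s' η := h (hsη η hη) (hsη' η hη) (by
      show f (s η) = f (s' η)
      rw [← Scheme.Hom.comp_apply, ← Scheme.Hom.comp_apply, hs, hs'])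
    obtain ⟨W, j, p, hj, hp, hpre, -⟩ := exists_chart hf (s η)
    let a := (Spec (Y.presheaf.stalk (f x))).fromSpecResidueField η
    have hr : ∀ t : Spec (Y.presheaf.stalk (f x)) ⟶ X, t η = j p → Set.range (a ≫ t) ⊆ Set.range j :=
      fun t ht => by
        rintro _ ⟨w, rfl⟩
        exact ⟨p, by rw [Scheme.Hom.comp_apply, show a w = η from Scheme.fromSpecResidueField_apply _ _, ht]⟩
    have e1 := IsOpenImmersion.lift_fac j (a ≫ s) (hr s hp.symm)
    have e2 := IsOpenImmersion.lift_fac j (a ≫ s') (hr s' (hz.symm.trans hp.symm))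
    have e3 : a ≫ s = a ≫ s' := by
      rw [← e1, ← e2]
      refine congrArg (· ≫ j) ((cancel_mono (j ≫ f)).1 ?_)
      rw [← Category.assoc, e1, ← Category.assoc, e2, Category.assoc, Category.assoc, hs, hs']
    have e4 : a ≫ l = (a ≫ s) ≫ pullback.diagonal f := by
      apply pullback.hom_ext
      · show (a ≫ pullback.lift s s' _) ≫ pullback.fst f f = _
        simp only [Category.assoc, pullback.lift_fst, pullback.diagonal_fst, Category.comp_id]
      · show (a ≫ pullback.lift s s' _) ≫ pullback.snd f f = _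
        simp only [Category.assoc, pullback.lift_snd, pullback.diagonal_snd, Category.comp_id]
        exact e3.symm
    obtain ⟨w⟩ : Nonempty (Spec ((Spec (Y.presheaf.stalk (f x))).residueField η) : Scheme.{u}) := inferInstance
    refine ⟨(a ≫ s) w, ?_⟩
    rw [← Scheme.Hom.comp_apply, ← e4, Scheme.Hom.comp_apply,
      show a w = η from Scheme.fromSpecResidueField_apply _ _]
  have hm : IsLocalRing.closedPoint (Y.presheaf.stalk (f x)) ∈ E := by
    obtain ⟨p, hp, hple⟩ := Ideal.exists_minimalPrimes_le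
      (show (⊥ : Ideal (Y.presheaf.stalk (f x))) ≤ (IsLocalRing.closedPoint _).asIdeal from bot_le)
    let η : PrimeSpectrum (Y.presheaf.stalk (f x)) := ⟨p, hp.1.1⟩
    have hηE : η ∈ E := hmax η fun z hz => PrimeSpectrum.ext (le_antisymm
      ((PrimeSpectrum.le_iff_specializes z η).2 hz) (hp.2 ⟨z.isPrime, bot_le⟩ ((PrimeSpectrum.le_iff_specializes z η).2 hz)))
    exact ((PrimeSpectrum.le_iff_specializes η _).1 hple).mem_closed hE hηE
  obtain ⟨w, hw⟩ := hm
  let c : (Spec (Y.presheaf.stalk (f x)) : Scheme.{u}) := IsLocalRing.closedPoint (Y.presheaf.stalk (f x))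
  replace hw : pullback.diagonal f w = l c := hw
  have h1 : s c = w := by
    rw [← show l ≫ pullback.fst f f = s from pullback.lift_fst _ _ _, Scheme.Hom.comp_apply, ← hw,
      ← Scheme.Hom.comp_apply, pullback.diagonal_fst]
    rfl
  have h2 : s' c = w := by
    rw [← show l ≫ pullback.snd f f = s' from pullback.lift_snd _ _ _, Scheme.Hom.comp_apply, ← hw,
      ← Scheme.Hom.comp_apply, pullback.diagonal_snd]
    rfl
  exact hsm.symm.trans (h1.trans (h2.symm.trans hsm'))

end Groth.Agent.LocImmLib
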